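import Groth.Agent.AdjLin.K802.ReducedZ
import Groth.Agent.AdjLin.K802.SubIdeal
import Groth.Agent.SurfBl.K805.Coord

/-!
# The ideal sheaf of a finite reduced set of closed points

`lci`: it is locally generated by two sections at points whose local ring is regular of dimension two.
`covBy_iff`: the Cayley-Bacharach condition in terms of the ideals covering it.
-/

set_option autoImplicit false
universe u

open AlgebraicGeometry CategoryTheory CategoryTheory.Limits IsLocalRing TopologicalSpace

namespace K464.RedPts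

variable {X : Scheme.{u}}

/-- Affine neighbourhoods inside an open subset. -/
theorem exists_affine_le (W : X.Opens) (x : X) (hx : x ∈ W) : ∃ V : X.affineOpens, x ∈ V.1 ∧ V.1 ≤ W := by
  obtain ⟨_, ⟨V, hV, rfl⟩, hxV, hVW⟩ := X.isBasis_affineOpens.exists_subset_of_mem_open hx W.2
  exact ⟨⟨V, hV⟩, hxV, hVW⟩

/-- The ideal of a finite set of closed points with regular two-dimensional local rings is locally generated by
two sections. -/
theorem lci [IsLocallyNoetherian X] (Z : Finset X) (hZc : IsClosed ((Z : Set X)))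
    (hZ : ∀ z ∈ Z, IsClosed ({z} : Set X))
    (hreg : ∀ z ∈ Z, IsRegularLocalRing (X.presheaf.stalk z) ∧ ringKrullDim (X.presheaf.stalk z) = 2) (x : X) :
    ∃ V : X.affineOpens, x ∈ (V : X.Opens) ∧
      ∃ a b : Γ(X, V), (Scheme.IdealSheafData.vanishingIdeal ⟨(Z : Set X), hZc⟩).ideal V = Ideal.span {a, b} := by
  classical
  by_cases hx : x ∈ Z
  · -- an affine neighbourhood meeting `Z` only in `x`
    have hcl : IsClosed (((Z.erase x : Finset X)) : Set X) := by
      rw [← Set.biUnion_of_singleton (((Z.erase x : Finset X)) : Set X)]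
      exact (Z.erase x).finite_toSet.isClosed_biUnion fun z hz => hZ z (Finset.mem_of_mem_erase hz)
    obtain ⟨V₀, hxV₀, hV₀⟩ := exists_affine_le ⟨(((Z.erase x : Finset X)) : Set X)ᶜ, hcl.isOpen_compl⟩ x
      (fun h => Finset.notMem_erase x Z h)
    have hJ : (Scheme.IdealSheafData.vanishingIdeal ⟨(Z : Set X), hZc⟩).ideal V₀ =
        (V₀.2.primeIdealOf ⟨x, hxV₀⟩).asIdeal := by
      have h1 : (Scheme.IdealSheafData.vanishingIdeal ⟨(Z : Set X), hZc⟩).ideal V₀ =
        PrimeSpectrum.vanishingIdeal (V₀.2.fromSpec ⁻¹' (Z : Set X)) := rfl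
      have h2 : V₀.2.fromSpec ⁻¹' (Z : Set X) = {V₀.2.primeIdealOf ⟨x, hxV₀⟩} := by
        ext p
        simp only [Set.mem_preimage, Finset.mem_coe]
        constructor
        · intro hp
          apply V₀.2.fromSpec.isOpenEmbedding.injective
          rw [V₀.2.fromSpec_primeIdealOf]
          by_contra hne
          have h3 : V₀.2.fromSpec p ∈ V₀.1 := by
            have := Set.mem_range_self (f := V₀.2.fromSpec) p
            rwa [V₀.2.range_fromSpec] at this
          exact hV₀ h3 (Finset.mem_coe.2 (Finset.mem_erase.2 ⟨hne, hp⟩))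
        · rintro rfl
          rw [V₀.2.fromSpec_primeIdealOf ⟨x, hxV₀⟩]
          exact hx
      exact h1.trans ((congrArg PrimeSpectrum.vanishingIdeal h2).trans (PrimeSpectrum.vanishingIdeal_singleton _))
    have hr := (hreg x hx).1
    obtain ⟨V, hxV, -, a, b, hab, -⟩ := K805.Coord.exists_coord_open
      (Scheme.IdealSheafData.vanishingIdeal ⟨(Z : Set X), hZc⟩) x V₀ hxV₀ hJ (hreg x hx).2
    exact ⟨V, hxV, a, b, hab⟩
  · obtain ⟨V, hxV, hV⟩ := exists_affine_le ⟨(Z : Set X)ᶜ, hZc.isOpen_compl⟩ x hx
    refine ⟨V, hxV, 1, 0, ?_⟩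
    rw [K802.SubIdeal.ideal_eq_top V]
    · exact ((Ideal.eq_top_iff_one _).2 (Ideal.subset_span (by simp))).symm
    · intro y hy hys
      have h1 : y ∈ (((Scheme.IdealSheafData.vanishingIdeal ⟨(Z : Set X), hZc⟩).support : Closeds X) : Set X) := hys
      rw [Scheme.IdealSheafData.coe_support_vanishingIdeal] at h1
      exact hV hy h1

/-- The Cayley-Bacharach condition for an ideal sheaf `K`. -/
theorem covBy_iff (Z : Finset X) (hZc : IsClosed ((Z : Set X))) (hZ : ∀ z ∈ Z, IsClosed ({z} : Set X))
    (K : X.IdealSheafData) :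
    (∀ I' : X.IdealSheafData, Scheme.IdealSheafData.vanishingIdeal ⟨(Z : Set X), hZc⟩ ⋖ I' → K ≤ I' →
      K ≤ Scheme.IdealSheafData.vanishingIdeal ⟨(Z : Set X), hZc⟩) ↔
    ∀ z ∈ Z, (∀ z' ∈ Z, z' ≠ z → z' ∈ K.support) → z ∈ K.support := by
  classical
  have hcl : ∀ z : X, IsClosed (((Z.erase z : Finset X)) : Set X) := fun z => by
    rw [← Set.biUnion_of_singleton (((Z.erase z : Finset X)) : Set X)]
    exact (Z.erase z).finite_toSet.isClosed_biUnion fun z' hz' => hZ z' (Finset.mem_of_mem_erase hz')
  have hsupp : ∀ Y : Closeds X, ((Scheme.IdealSheafData.vanishingIdeal Y).support : Set X) = (Y : Set X) :=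
    fun Y => Scheme.IdealSheafData.coe_support_vanishingIdeal Y
  -- the strict inequality
  have hlt : ∀ z ∈ Z, Scheme.IdealSheafData.vanishingIdeal ⟨(Z : Set X), hZc⟩ <
      Scheme.IdealSheafData.vanishingIdeal ⟨(((Z.erase z : Finset X)) : Set X), hcl z⟩ := by
    intro z hz
    refine lt_of_le_of_ne (Scheme.IdealSheafData.vanishingIdeal_antimono ?_) fun he => ?_
    · exact Finset.coe_subset.2 (Finset.erase_subset z Z)
    · have h1 := congrArg (fun J : X.IdealSheafData => (J.support : Set X)) he
      simp only [hsupp] at h1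
      have h2 : z ∈ ((Z : Set X)) := hz
      have h3 : z ∈ (((Z.erase z : Finset X)) : Set X) := by
        have := h1 ▸ h2
        exact this
      exact Finset.notMem_erase z Z h3
  constructor
  · intro h z hz hK
    have hcov : Scheme.IdealSheafData.vanishingIdeal ⟨(Z : Set X), hZc⟩ ⋖
        Scheme.IdealSheafData.vanishingIdeal ⟨(((Z.erase z : Finset X)) : Set X), hcl z⟩ := by
      refine ⟨hlt z hz, fun J hJ1 hJ2 => ?_⟩
      have hJ := K802.ReducedZ.eq_vanishingIdeal ⟨(Z : Set X), hZc⟩ Z.finite_toSet hZ J hJ1.le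
      have hs1 : (J.support : Set X) ⊆ (Z : Set X) := by
        have h5 : (J.support : Set X) ⊆
          ((Scheme.IdealSheafData.vanishingIdeal ⟨(Z : Set X), hZc⟩).support : Set X) :=
          Scheme.IdealSheafData.support_antitone hJ1.le
        rw [hsupp] at h5
        exact h5
      have hs2 : (((Z.erase z : Finset X)) : Set X) ⊆ (J.support : Set X) := by
        have h5 : ((Scheme.IdealSheafData.vanishingIdeal
          ⟨(((Z.erase z : Finset X)) : Set X), hcl z⟩).support : Set X) ⊆ (J.support : Set X) :=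
          Scheme.IdealSheafData.support_antitone hJ2.le
        rw [hsupp] at h5
        exact h5
      by_cases hzJ : z ∈ (J.support : Set X)
      · refine hJ1.ne (Eq.trans (congrArg _ ?_) hJ.symm)
        apply Closeds.ext
        refine Set.Subset.antisymm (fun y hy => ?_) hs1
        by_cases hyz : y = z
        · rw [hyz]; exact hzJ
        · exact hs2 (Finset.mem_coe.2 (Finset.mem_erase.2 ⟨hyz, hy⟩))
      · refine hJ2.ne (hJ.trans (congrArg _ ?_))
        apply Closeds.ext
        refine Set.Subset.antisymm (fun y hy => ?_) hs2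
        refine Finset.mem_coe.2 (Finset.mem_erase.2 ⟨?_, hs1 hy⟩)
        rintro rfl
        exact hzJ hy
    have h1 := h _ hcov (Scheme.IdealSheafData.le_support_iff_le_vanishingIdeal.1 (fun y hy =>
      hK y (Finset.mem_of_mem_erase hy) (Finset.ne_of_mem_erase hy)))
    exact Scheme.IdealSheafData.le_support_iff_le_vanishingIdeal.2 h1 hz
  · intro h I' hI' hK
    have hI := K802.ReducedZ.eq_vanishingIdeal ⟨(Z : Set X), hZc⟩ Z.finite_toSet hZ I' hI'.1.le
    have hs1 : (I'.support : Set X) ⊆ (Z : Set X) := by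
      have h5 : (I'.support : Set X) ⊆
        ((Scheme.IdealSheafData.vanishingIdeal ⟨(Z : Set X), hZc⟩).support : Set X) :=
        Scheme.IdealSheafData.support_antitone hI'.1.le
      rw [hsupp] at h5
      exact h5
    obtain ⟨z, hz, hzI⟩ : ∃ z ∈ (Z : Set X), z ∉ (I'.support : Set X) := by
      by_contra hcon
      push Not at hcon
      refine hI'.1.ne (Eq.trans (congrArg _ ?_) hI.symm)
      apply Closeds.ext
      exact Set.Subset.antisymm hcon hs1
    have hle : Scheme.IdealSheafData.vanishingIdeal ⟨(((Z.erase z : Finset X)) : Set X), hcl z⟩ ≤ I' := by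
      rw [hI]
      refine Scheme.IdealSheafData.vanishingIdeal_antimono fun y hy => ?_
      refine Finset.mem_coe.2 (Finset.mem_erase.2 ⟨?_, hs1 hy⟩)
      rintro rfl
      exact hzI hy
    have heq : Scheme.IdealSheafData.vanishingIdeal ⟨(((Z.erase z : Finset X)) : Set X), hcl z⟩ = I' :=
      (hle.lt_or_eq).resolve_left fun hlt' => hI'.2 (hlt z hz) hlt'
    rw [← heq] at hK
    have h6 := Scheme.IdealSheafData.le_support_iff_le_vanishingIdeal.2 hK
    have h7 : ∀ z' ∈ Z, z' ≠ z → z' ∈ K.support := fun z' hz' hne =>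
      h6 (Finset.mem_coe.2 (Finset.mem_erase.2 ⟨hne, hz'⟩))
    have h8 := h z hz h7
    refine Scheme.IdealSheafData.le_support_iff_le_vanishingIdeal.1 fun y hy => ?_
    by_cases hyz : y = z
    · rw [hyz]; exact h8
    · exact h7 y hy hyz

end K464.RedPts
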